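import Groth.Agent.H16Derived.ExtFin.Linear
import Groth.Agent.H4RepDual.UnitHom
import Groth.Agent.H10Coh.Proper2
import Groth.Agent.H16Derived.ProperSupp.Coherent
import Groth.Agent.H16Derived.Dual.PseudoCoh

/-!
# Finiteness of `Ext` on a proper scheme over a Noetherian ring
-/

set_option autoImplicit false
set_option linter.style.haveILetI false
set_option backward.isDefEq.respectTransparency false

universe v u w

open CategoryTheory CategoryTheory.Limits CategoryTheory.Pretriangulated AlgebraicGeometry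

namespace Groth.Agent.H16Derived.ExtFin

section Gen

variable {R : Type w} [CommRing R] [IsNoetherianRing R]
  {C : Type u} [Category.{v} C] [Preadditive C] [Linear R C] [HasZeroObject C] [HasShift C ℤ]
  [∀ n : ℤ, (shiftFunctor C n).Additive] [Pretriangulated C]

theorem finite_of_iso (W : C) {V V' : C} (e : V ≅ V') (h : Module.Finite R (W ⟶ V)) :
    Module.Finite R (W ⟶ V') :=
  Module.Finite.equiv (Linear.homCongr R (Iso.refl W) e)

theorem finite_obj₂ (W : C) (T : Triangle C) (hT : T ∈ distTriang C)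
    (h₁ : Module.Finite R (W ⟶ T.obj₁)) (h₃ : Module.Finite R (W ⟶ T.obj₃)) :
    Module.Finite R (W ⟶ T.obj₂) := by
  refine @Module.Finite.of_submodule_quotient _ _ _ _ _ (LinearMap.ker (Linear.rightComp R W T.mor₂)) ?_ ?_
  · rw [Module.Finite.iff_fg]
    have : LinearMap.ker (Linear.rightComp R W T.mor₂) = LinearMap.range (Linear.rightComp R W T.mor₁) := by
      ext g
      refine ⟨fun hg => ?_, ?_⟩
      · obtain ⟨g', hg'⟩ := Triangle.coyoneda_exact₂ _ hT g hg
        exact ⟨g', hg'.symm⟩
      · rintro ⟨g', rfl⟩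
        show (g' ≫ T.mor₁) ≫ T.mor₂ = 0
        rw [Category.assoc, comp_distTriang_mor_zero₁₂ _ hT, comp_zero]
    rw [this]
    exact Module.Finite.iff_fg.1 (Module.Finite.range _)
  · exact Module.Finite.equiv (Linear.rightComp R W T.mor₂).quotKerEquivRange.symm

end Gen

attribute [local instance] HasDerivedCategory.standard
attribute [local instance 10000] H10Coh.hasSheafifyAb H10Coh.hasWeakSheafifyAb H10Coh.hasExtAb H10Coh.enoughInjAb

open DerivedCategory.TStructure (t)

variable (A : Type u) [CommRing A] [IsNoetherianRing A] {X : Scheme.{u}}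
  [X.Over (Spec (CommRingCat.of A))] [IsProper (X ↘ Spec (CommRingCat.of A))]

theorem finite_inD {M : X.Modules} (hM : Coh.IsCoh M) (n : ℕ) :
    Module.Finite A (DCoh.inD X (Coh.structureModule X) ⟶ (DCoh.inD X M)⟦(n : ℤ)⟧) := by
  haveI := H4RepDual.hasExtModules X
  haveI := H10Coh.finite_HH_proper A X M hM n
  let l : (DCoh.inD X (Coh.structureModule X) ⟶ (DCoh.inD X M)⟦(n : ℤ)⟧) →ₗ[A] Coh.HH X M n :=
    { toFun := H4RepDual.toHH M n
      map_add' := fun g h => map_add _ g h
      map_smul' := fun a g => by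
        have h1 : g ≫ ((DerivedCategory.singleFunctor X.Modules 0).map (a • 𝟙 M))⟦(n : ℤ)⟧' = a • g := by
          rw [Functor.map_smul, Functor.map_smul, CategoryTheory.Functor.map_id,
            CategoryTheory.Functor.map_id, Linear.comp_smul]
          exact congrArg (a • ·) (Category.comp_id g)
        rw [← h1, H4RepDual.toHH_naturality, KLin.smul_id]
        rfl }
  exact Module.Finite.equiv (LinearEquiv.ofBijective l (H4RepDual.bijective_toHH M n)).symm

theorem finite_single {M : X.Modules} (hM : Coh.IsCoh M) (b n : ℤ) :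
    Module.Finite A (DCoh.inD X (Coh.structureModule X) ⟶
      ((DerivedCategory.singleFunctor X.Modules b).obj M)⟦n⟧) := by
  rcases lt_or_ge n b with h | h
  · haveI : t.IsGE (((DerivedCategory.singleFunctor X.Modules b).obj M)⟦n⟧) (b - n) :=
      t.isGE_shift _ b n (b - n) (by omega)
    haveI : Subsingleton (DCoh.inD X (Coh.structureModule X) ⟶
        ((DerivedCategory.singleFunctor X.Modules b).obj M)⟦n⟧) := by
      haveI : t.IsLE (DCoh.inD X (Coh.structureModule X)) 0 :=
        inferInstanceAs (((DerivedCategory.singleFunctor X.Modules 0).obj (Coh.structureModule X)).IsLE 0)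
      exact ⟨fun f g => (t.zero f 0 (b - n) (by omega)).trans (t.zero g 0 (b - n) (by omega)).symm⟩
    infer_instance
  · obtain ⟨p, hp⟩ := Int.eq_ofNat_of_zero_le (show 0 ≤ n - b by omega)
    refine finite_of_iso _ ?_ (finite_inD A hM p)
    exact (shiftFunctor (DCoh.D X) (p : ℤ)).mapIso
      (((DerivedCategory.singleFunctors X.Modules).shiftIso b 0 b (add_zero b)).app M).symm ≪≫
      ((shiftFunctorAdd' (DCoh.D X) b (p : ℤ) n (by omega)).app _).symm

theorem finite_bounded : ∀ (k : ℕ) (a b : ℤ), b - a + 1 ≤ k → ∀ (M : DCoh.D X), M.IsGE a → M.IsLE b →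
    DCoh.IsCohD M → ∀ n : ℤ, Module.Finite A (DCoh.inD X (Coh.structureModule X) ⟶ M⟦n⟧) := by
  haveI : IsLocallyNoetherian X := LocallyOfFiniteType.isLocallyNoetherian (X ↘ Spec (CommRingCat.of A))
  intro k
  induction k with
  | zero =>
    intro a b hk M _ _ _ n
    have hz : IsZero (M⟦n⟧) := (shiftFunctor _ n).map_isZero (t.isZero M b a (by omega))
    haveI : Subsingleton (DCoh.inD X (Coh.structureModule X) ⟶ M⟦n⟧) := ⟨fun f g => hz.eq_of_tgt f g⟩
    infer_instance
  | succ k ih =>
    intro a b hk M _ _ hM n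
    have hT := Triangle.shift_distinguished _ (t.triangleLTGE_distinguished b M) n
    haveI : DerivedCategory.IsGE ((t.truncGE b).obj M) b := inferInstanceAs (t.IsGE _ b)
    haveI : DerivedCategory.IsLE ((t.truncGE b).obj M) b := DTrunc.isLE_truncGE M b b
    obtain ⟨N, ⟨e⟩⟩ := ((t.truncGE b).obj M).exists_iso_singleFunctor_obj_of_isGE_of_isLE b
    have hN : Coh.IsCoh N := by
      haveI := DTrunc.isIso_homology_truncGEπ M b b le_rfl
      exact H10Coh.isCoh_of_iso (asIso ((DerivedCategory.homologyFunctor _ b).map ((t.truncGEπ b).app M)) ≪≫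
        (DerivedCategory.homologyFunctor _ b).mapIso e ≪≫ KFlat.Stalk.hdSingle N b) (hM b)
    refine finite_obj₂ _ _ hT ?_ ?_
    · exact ih a (b - 1) (by omega) _ (DTrunc.isGE_truncLT M b a)
        (inferInstanceAs (t.IsLE ((t.truncLT b).obj M) (b - 1))) (fun i => by
          rcases lt_or_ge i b with hi | hi
          · haveI := DTrunc.isIso_homology_truncLTι M b i hi
            exact H10Coh.isCoh_of_iso
              (asIso ((DerivedCategory.homologyFunctor _ i).map ((t.truncLTι b).app M))).symm (hM i)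
          · haveI : DerivedCategory.IsLE ((t.truncLT b).obj M) (b - 1) :=
              inferInstanceAs (t.IsLE ((t.truncLT b).obj M) (b - 1))
            exact Dual.isCoh_isZero (DerivedCategory.isZero_of_isLE ((t.truncLT b).obj M) (b - 1) i (by omega))) n
    · exact finite_of_iso _ ((shiftFunctor _ n).mapIso e.symm) (finite_single A hN b n)

theorem finite_isGE (M : DCoh.D X) (a : ℤ) [M.IsGE a] (hM : DCoh.IsCohD M) (n : ℤ) :
    Module.Finite A (DCoh.inD X (Coh.structureModule X) ⟶ M⟦n⟧) := by
  haveI : IsLocallyNoetherian X := LocallyOfFiniteType.isLocallyNoetherian (X ↘ Spec (CommRingCat.of A))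
  haveI : DerivedCategory.IsLE ((t.truncLT (n + 1)).obj M) (n + 1 - 1) := inferInstanceAs (t.IsLE _ _)
  haveI h1 := finite_bounded A ((n + 1 - 1) - a + 1).toNat a (n + 1 - 1) (Int.self_le_toNat _) _
    (DTrunc.isGE_truncLT M (n + 1) a) inferInstance (fun i => by
      rcases lt_or_ge i (n + 1) with hi | hi
      · haveI := DTrunc.isIso_homology_truncLTι M (n + 1) i hi
        exact H10Coh.isCoh_of_iso
          (asIso ((DerivedCategory.homologyFunctor _ i).map ((t.truncLTι (n + 1)).app M))).symm (hM i)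
      · exact Dual.isCoh_isZero (DerivedCategory.isZero_of_isLE ((t.truncLT (n + 1)).obj M) (n + 1 - 1) i (by omega))) n
  refine finite_obj₂ _ _ (Triangle.shift_distinguished _ (t.triangleLTGE_distinguished (n + 1) M) n) h1 ?_
  haveI : t.IsGE (((t.truncGE (n + 1)).obj M)⟦n⟧) 1 := t.isGE_shift _ (n + 1) n 1 (by omega)
  haveI : t.IsLE (DCoh.inD X (Coh.structureModule X)) 0 :=
    inferInstanceAs (((DerivedCategory.singleFunctor X.Modules 0).obj (Coh.structureModule X)).IsLE 0)
  have hs : Subsingleton (DCoh.inD X (Coh.structureModule X) ⟶ ((t.truncGE (n + 1)).obj M)⟦n⟧) :=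
    ⟨fun f g => (t.zero f 0 1 (by omega)).trans (t.zero g 0 1 (by omega)).symm⟩
  exact @Module.Finite.of_finite _ _ _ _ _ (@Finite.of_subsingleton _ hs)

/-- `Ext` groups are finite. -/
theorem finite_hom (k L : DCoh.D X) (b a : ℤ) [k.IsLE b] [L.IsGE a] (hk : DCoh.IsCohD k)
    (hL : DCoh.IsCohD L) (n : ℤ) : Module.Finite A (k ⟶ L⟦n⟧) := by
  haveI : IsLocallyNoetherian X := LocallyOfFiniteType.isLocallyNoetherian (X ↘ Spec (CommRingCat.of A))
  haveI : (L⟦n⟧).IsGE (a - n) := t.isGE_shift L a n (a - n) (by omega)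
  haveI := Dual.isGE_R b (k := k) (L⟦n⟧) (a - n)
  have hc := Dual.isCohD_R (fun m => Dual.isPseudoCoherentD_of_isCohD b hk m) (Dual.isCohD_shift hL n) (a - n)
  have h0 := finite_isGE A ((Dual.R k).obj (L⟦n⟧)) (a - n - b) hc 0
  haveI := h0
  haveI : Module.Finite A (Dual.one X ⟶ (Dual.R k).obj (L⟦n⟧)) := Module.Finite.equiv
    (Linear.homCongr A Dual.oneIso ((shiftFunctorZero (DCoh.D X) ℤ).app ((Dual.R k).obj (L⟦n⟧))))
  exact Module.Finite.equiv (homLin A k (L⟦n⟧))

end Groth.Agent.H16Derived.ExtFin
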