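import Groth.Prelude.Def_KLin
import Groth.Agent.H16Derived.Dual.Main
import Groth.Agent.H16Derived.Dual.Symm
import Groth.Agent.H02CA.VBPn.Extend

/-!
# The derived tensor product and its adjoint are linear over the base ring
-/

set_option autoImplicit false
set_option linter.style.haveILetI false
set_option backward.isDefEq.respectTransparency false

universe v u w

open CategoryTheory CategoryTheory.Limits AlgebraicGeometry

namespace Groth.Agent.H16Derived.ExtFin

section Gen

variable {C : Type u} [Category.{v} C] [Preadditive C] {R : Type w} [Ring R] [Linear R C]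
  (F : C ⥤ C ⥤ C) [F.PreservesZeroMorphisms] [∀ M, (F.obj M).PreservesZeroMorphisms]
  [∀ (K L : CochainComplex C ℤ), HomologicalComplex.HasMapBifunctor K L F (ComplexShape.up ℤ)]

/-- A bifunctor linear in the first variable is linear on complexes. -/
theorem map₂_smul_id (h : ∀ (M N : C) (a : R), (F.map (a • 𝟙 M)).app N = a • 𝟙 _)
    (K E : CochainComplex C ℤ) (a : R) :
    (F.map₂CochainComplex.map (a • 𝟙 K)).app E = a • 𝟙 _ := by
  refine HomologicalComplex.hom_ext _ _ fun n => HomologicalComplex.mapBifunctor.hom_ext fun p q hpq => ?_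
  refine (HomologicalComplex.ι_mapBifunctorMap (a • 𝟙 K) (𝟙 E) F (ComplexShape.up ℤ) p q n hpq).trans ?_
  rw [show (𝟙 E : E ⟶ E).f q = 𝟙 (E.X q) from rfl, CategoryTheory.Functor.map_id, Category.id_comp,
    show (a • 𝟙 K).f p = a • 𝟙 (K.X p) from rfl, h, Linear.smul_comp, Category.id_comp]
  exact ((Linear.comp_smul _ _ _ _ _ _).trans (congrArg (a • ·) (Category.comp_id _))).symm

end Gen

attribute [local instance] HasDerivedCategory.standard

open Groth.Agent.H16Derived.Dual Groth.Agent.H16Derived.KFlat Groth.Agent.H16Derived.KFlat.Stalk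

variable (A : Type u) [CommRing A] {X : Scheme.{u}} [X.Over (Spec (CommRingCat.of A))]

theorem tensorBi_map_smul (M N : X.Modules) (a : A) :
    ((DCoh.tensorBi (X := X)).map (a • 𝟙 M)).app N = a • 𝟙 _ := by
  rw [KLin.smul_id]
  refine Eq.trans ?_ (KLin.smul_id _ a).symm
  exact H02CA.VBPn.twist_map_smulModΓ N M _

theorem tensorCx_map_smul (K E : Cx X) (a : A) :
    ((DCoh.tensorCx (X := X)).map (a • 𝟙 K)).app E = a • 𝟙 _ :=
  map₂_smul_id (DCoh.tensorBi (X := X)) (fun M N a => tensorBi_map_smul A M N a) K E a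

/-- The derived tensor product is linear in the first variable. -/
theorem T_map_smul (Y k : DCoh.D X) (a : A) : ((T X).map (a • 𝟙 Y)).app k = a • 𝟙 _ := by
  obtain ⟨E, hE, -, ⟨e⟩⟩ := exists_rep k
  obtain ⟨K, -, hK, ⟨e'⟩⟩ := exists_rep Y
  have h1 : ((T X).map (a • 𝟙 (DerivedCategory.Q.obj K))).app (DerivedCategory.Q.obj E) = a • 𝟙 _ := by
    haveI := isIso_ε K E (Or.inl hK)
    haveI : IsIso ((εFst E).app K) := isIso_ε K E (Or.inl hK)
    refine (cancel_mono ((εFst E).app K)).1 ?_
    have hn := (εFst E).naturality (a • 𝟙 K)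
    have hQ : DerivedCategory.Q.map (a • 𝟙 K) = a • 𝟙 (DerivedCategory.Q.obj K) := by
      rw [Functor.map_smul, CategoryTheory.Functor.map_id]
    have hR : (DCoh.tensorCxQ E).map (a • 𝟙 K) = a • 𝟙 _ := by
      refine (congrArg (fun z => DerivedCategory.Q.map z) (tensorCx_map_smul A K E a)).trans ?_
      rw [Functor.map_smul, CategoryTheory.Functor.map_id]
      rfl
    refine Eq.trans ?_ ((hn.trans (congrArg (_ ≫ ·) hR)).trans ?_)
    · exact congrArg (fun z => ((T X).map z).app (DerivedCategory.Q.obj E) ≫ (εFst E).app K) hQ.symm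
    · rw [Linear.comp_smul, Category.comp_id, Linear.smul_comp]
      exact congrArg (a • ·) (Category.id_comp _).symm
  have h2 : ((T X).map (a • 𝟙 Y)).app (DerivedCategory.Q.obj E) = a • 𝟙 _ := by
    have := congrArg (fun z => ((T X).map e'.inv).app (DerivedCategory.Q.obj E) ≫ z ≫
      ((T X).map e'.hom).app (DerivedCategory.Q.obj E)) h1
    simp only [← NatTrans.comp_app, ← Functor.map_comp, Linear.smul_comp, Linear.comp_smul,
      Category.id_comp, Iso.inv_hom_id] at this
    rw [this, CategoryTheory.Functor.map_id, NatTrans.id_app]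
  refine (cancel_epi (((T X).obj Y).map e.hom)).1 ?_
  rw [NatTrans.naturality, h2, Linear.smul_comp, Linear.comp_smul, Category.id_comp, Category.comp_id]

theorem T_map_smul' {Y Y' : DCoh.D X} (g : Y ⟶ Y') (k : DCoh.D X) (a : A) :
    ((T X).map (a • g)).app k = a • ((T X).map g).app k := by
  rw [show a • g = (a • 𝟙 Y) ≫ g by rw [Linear.smul_comp, Category.id_comp], Functor.map_comp,
    NatTrans.comp_app, T_map_smul, Linear.smul_comp, Category.id_comp]

/-- `Hom(Y, R k L) ≃ Hom(T Y k, L)`, linearly. -/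
noncomputable def adjLin (k Y L : DCoh.D X) :
    (Y ⟶ (R k).obj L) ≃ₗ[A] (((T X).obj Y).obj k ⟶ L) where
  toFun g := ((adjR k).homEquiv Y L).symm g
  map_add' g h := by
    simp only [Adjunction.homEquiv_counit, Functor.map_add, Preadditive.add_comp]
  map_smul' a g := by
    simp only [Adjunction.homEquiv_counit]
    exact (congrArg (· ≫ _) (T_map_smul' A g k a)).trans (Linear.smul_comp _ _ _ _ _ _)
  invFun f := (adjR k).homEquiv Y L f
  left_inv g := ((adjR k).homEquiv Y L).apply_symm_apply g
  right_inv f := ((adjR k).homEquiv Y L).symm_apply_apply f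

/-- `Hom(k, L) ≃ Hom(O, R k L)`, linearly. -/
noncomputable def homLin (k L : DCoh.D X) : (one X ⟶ (R k).obj L) ≃ₗ[A] (k ⟶ L) :=
  (adjLin A k (one X) L).trans
    (Linear.homCongr A (σ (one X) k ≪≫ (rightUnit (X := X)).app k) (Iso.refl L))

end Groth.Agent.H16Derived.ExtFin
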